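import Cfsg.Agent.BH.Row2L.Top
import Cfsg.Agent.BH.Min.Main
import Cfsg.Agent.BH.Reg.B
import Cfsg.Agent.BH.RZ.RD
import Cfsg.Agent.BH.RZ.AC
import Cfsg.Agent.BH.RZ.RG
import Cfsg.Agent.BH.RZ.SA
import Cfsg.Agent.BH.RZ.TQ
import Cfsg.Agent.BH.RZ.VG
import Cfsg.Agent.BH.Perm.Main
import Cfsg.Agent.BH.Perm.Fin
import Cfsg.Agent.BH.TT.DQ
import Cfsg.Agent.BH.TT.Main
import Cfsg.Agent.BH.Pb.SPL
import Cfsg.Agent.BH.Star.FinC
import Cfsg.Agent.BH.S1.Main
import Cfsg.Agent.BH.S1v.Main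
import Cfsg.Agent.BH.RowE.Split
import Cfsg.Agent.BH.RowE.Lie
import Cfsg.Agent.BH.Row2A.Main
import Cfsg.Agent.BH.RowO.Fin2
import Cfsg.Agent.BZ.Red
import Cfsg.Agent.KM.All

/-!
# BH (S4524): the theorem from the rows (helper77)
-/

set_option autoImplicit false

namespace Cfsg.Agent.BH

open Cfsg Cfsg.Agent.KM

namespace Fin0

variable {p : ℕ} [Fact p.Prime] {M : Ideal AlgInt}

theorem rz : BoxRZ p M :=
  boxRZ boxEXT boxREG boxRT (RZ.boxRG RZ.boxSA RZ.boxTQ RZ.boxVG) (RZ.boxAC boxEXT boxREG boxRT boxORB)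

theorem s1 : BoxS1 p M := by
  by_cases hp : p = 2
  · subst hp
    exact boxS1_two
  · exact boxS1_odd hp

theorem perm : BoxPERM p M := boxPERM (boxCMP rz boxRT) (boxSTAR s1 boxSPL boxTT (boxCMP rz boxRT)) boxREG

theorem rowO (R : RowsO) : RowOFor fun _ _ _ => True := fun p _ hp S _ _ _ hS _ => R.known p hp S hS S0000.result

theorem old {C : ℕ → ∀ (S : Type) [Group S], Prop} (h : Row2For C) : R2.RowFor C := fun S _ _ _ hS hC =>
  R2.row_old S (h S hS hC)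

theorem row2 (R : R2.Rows) : R2.RowFor fun _ _ _ => True := fun S _ _ _ hS _ =>
  RowE.Fams.known (p := 2) (W := fun S _ => R2.Row S) ⟨old row2_alt, old row2_lie, R.psl, R.psp, R.psu, R.oodd,
    R.oplus, R.ominus, R.g2, R.f4, R.e6, R.e7, R.e8, R.te6, R.td4, fun _ _ _ _ _ h => absurd rfl h.1, old row2_ree,
    fun _ _ _ _ _ h => absurd rfl h.1, old row2_tits, old row2_spor⟩ S hS S0000.result

theorem qsb (h : BZ.All BZ.RowP) (hM : IsPModular p M) : QSb p M := fun K _ _ hK B D hB hD hz =>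
  BZ.qsP h hM K hK B D hB hD (BK.eq_iff_hz.1 hz)

end Fin0

open Fin0 in
/-- **S4524** from the rows -/
theorem s4524_rows.{u} (RO : RowsO) (R : R2.Rows) (hZ : BZ.All BZ.RowP) {G : Type u} [Group G] [Finite G] (p : ℕ)
    [Fact p.Prime] (M : Ideal AlgInt) (hM : IsPModular p M) (B : Set (IrrCharacter G)) (hB : IsPBlock M B)
    (D : Subgroup G) (hD : IsDefectGroup p M B D) : IsMulCommutative D ↔ ∀ χ ∈ B, blockHeight p B (χ : G → ℂ) = 0 :=
  have h := R2.tri_aut' (p := p) (M := M) (rowO RO) (row2 R)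
  R2.s4524_boxes' boxMin boxRT boxREG rz perm (boxFIN boxRT boxREG boxDQ boxORB) h.1 h.2 (qsb hZ hM) (kmAll p) hM B hB D hD

/-- **S4524** from the open boxes -/
theorem s4524_ta.{u} (hT : BZ.L.BoxTA) (R : R2.Rows) (hZ : BZ.All BZ.RowP) {G : Type u} [Group G] [Finite G] (p : ℕ)
    [Fact p.Prime] (M : Ideal AlgInt) (hM : IsPModular p M) (B : Set (IrrCharacter G)) (hB : IsPBlock M B)
    (D : Subgroup G) (hD : IsDefectGroup p M B D) : IsMulCommutative D ↔ ∀ χ ∈ B, blockHeight p B (χ : G → ℂ) = 0 :=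
  s4524_rows (RO.rowsO_ta hT) R hZ p M hM B hB D hD

end Cfsg.Agent.BH
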