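import Cfsg.Agent.BH.Defs
import Cfsg.Agent.KM.BK.Main

/-!
# BH (S4524): the glue (helper17)

* `bhg_all` : all heights zero implies an abelian defect group, from the boxes;
* `s4524_of` : the statement S4524 from `KMa p` and `BHg` for the groups in `Type`.
-/

set_option autoImplicit false
set_option linter.style.haveILetI false
set_option linter.unusedSectionVars false

open Cfsg

namespace Cfsg.Agent.BH

open Cfsg.Agent Cfsg.Agent.Blocks Cfsg.Agent.TID.Red Cfsg.Agent.KM.BK Cfsg.Agent.TO
open Cfsg.Agent.SignalizersComponents.Components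

universe u v

namespace Main

variable {p : ℕ} [Fact p.Prime] {G : Type u} [Group G] [Finite G]

/-- if every component has a centralizing supplement, so has the layer -/
theorem layer_sup (h : ∀ K : Subgroup G, IsComponent K → K ⊔ Ce K = ⊤) : layer G ⊔ Ce (layer G) = ⊤ := by
  rw [eq_top_iff]
  intro g _
  have key : ∀ T : Set (Subgroup G), T ⊆ {K | IsComponent K} → ∃ e ∈ layer G, ∀ K ∈ T, e⁻¹ * g ∈ Ce K := by
    intro T
    induction T, Set.toFinite T using Set.Finite.induction_on with
    | empty => exact fun _ => ⟨1, one_mem _, fun K hK => absurd hK (Set.notMem_empty K)⟩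
    | @insert K T hKT _ ih =>
      intro hT
      have hK : IsComponent K := hT (Set.mem_insert _ _)
      obtain ⟨e, he, h1⟩ := ih ((Set.subset_insert _ _).trans hT)
      obtain ⟨k, hk, c, hc, h2⟩ := exists_mul_of_le_centralizer le_rfl (h K hK ▸ Subgroup.mem_top (e⁻¹ * g))
      have h3 : (e * k)⁻¹ * g = k⁻¹ * (e⁻¹ * g) := by group
      refine ⟨e * k, mul_mem he (component_le_layer hK hk), fun L hL => ?_⟩
      rcases hL with rfl | hL
      · rw [h3, ← h2, inv_mul_cancel_left]
        exact hc
      · rw [h3]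
        refine mul_mem (inv_mem ?_) (h1 L hL)
        exact component_le_centralizer_of_ne hK (hT (Set.mem_insert_of_mem _ hL)) (fun h4 => hKT (h4 ▸ hL)) hk
  obtain ⟨e, he, h1⟩ := key _ le_rfl
  have h2 : e⁻¹ * g ∈ Ce (layer G) := by
    have h3 : layer G ≤ Ce (Subgroup.zpowers (e⁻¹ * g)) := layer_le_iff.2 fun K hK =>
      Subgroup.le_centralizer_iff.1 (Subgroup.zpowers_le.2 (h1 K hK))
    exact Subgroup.le_centralizer_iff.1 h3 (Subgroup.mem_zpowers _)
  have h3 := Subgroup.mul_mem_sup he h2
  rwa [mul_inv_cancel_left] at h3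

/-- a proper normal subgroup of `p`-power index lies in a normal subgroup of index `p` -/
theorem exists_index {N : Subgroup G} [N.Normal] {k : ℕ} (hk : N.index = p ^ k) (hN : N ≠ ⊤) :
    ∃ L : Subgroup G, L.Normal ∧ L.index = p := by
  have hp : p.Prime := Fact.out
  have hP : IsPGroup p (G ⧸ N) := IsPGroup.iff_card.2 ⟨k, hk⟩
  obtain ⟨j, rfl⟩ : ∃ j, k = j + 1 := by
    refine Nat.exists_eq_succ_of_ne_zero fun h => hN ?_
    rw [h, pow_zero] at hk
    exact Subgroup.index_eq_one.1 hk
  obtain ⟨H, hH⟩ := Sylow.exists_subgroup_card_pow_prime (G := G ⧸ N) p (n := j)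
    (by rw [← Subgroup.index_eq_card, hk]; exact pow_dvd_pow p (Nat.le_succ j))
  have h1 : H.index = p := by
    have h2 := H.card_mul_index
    rw [hH, ← Subgroup.index_eq_card, hk, pow_succ] at h2
    exact Nat.eq_of_mul_eq_mul_left (pow_pos hp.pos j) h2
  have h2 : H.Normal := by
    refine Subgroup.normal_of_index_eq_minFac_card ?_
    rw [h1, ← Subgroup.index_eq_card, hk, hp.pow_minFac (Nat.succ_ne_zero j)]
  exact ⟨H.comap (QuotientGroup.mk' N), inferInstance,
    (Subgroup.index_comap_of_surjective H (QuotientGroup.mk'_surjective N)).trans h1⟩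

omit [Finite G] in
/-- a `p`-subgroup lies in every normal subgroup of index prime to `p` -/
theorem le_of_not_dvd {D N : Subgroup G} [N.Normal] (hD : IsPGroup p D) (h : ¬ p ∣ N.index) : D ≤ N := by
  intro d hd
  obtain ⟨k, hk⟩ := hD ⟨d, hd⟩
  have h1 : (d : G ⧸ N) ^ p ^ k = 1 := by
    rw [← QuotientGroup.mk_pow, show d ^ p ^ k = 1 from congrArg Subtype.val hk, QuotientGroup.mk_one]
  have h2 : (d : G ⧸ N) ^ N.index = 1 := pow_card_eq_one'
  have h3 := pow_gcd_eq_one.2 ⟨h1, h2⟩
  rw [Nat.Coprime.pow_left k ((Nat.Prime.coprime_iff_not_dvd Fact.out).2 h), pow_one] at h3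
  exact (QuotientGroup.eq_one_iff d).1 h3

omit [Finite G] in
/-- a quasisimple subgroup lies in every normal subgroup of prime index -/
theorem le_of_index {K L : Subgroup G} [L.Normal] (hK : IsQuasisimple K) (h : L.index = p) : K ≤ L := by
  have hc : IsCyclic (G ⧸ L) := isCyclic_of_prime_card h
  have h1 : commutator G ≤ L := by
    rw [← QuotientGroup.ker_mk' L, commutator_def, Subgroup.commutator_le]
    intro a _ b _
    rw [MonoidHom.mem_ker, map_commutatorElement, commutatorElement_eq_one_iff_mul_comm]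
    exact (IsCyclic.commGroup (α := G ⧸ L)).mul_comm _ _
  have h2 : K ≤ (commutator K).map K.subtype := by
    rw [hK.1.commutator_eq_top, ← MonoidHom.range_eq_map, Subgroup.range_subtype]
  refine h2.trans (le_trans ?_ h1)
  rw [commutator_def, Subgroup.map_commutator]
  exact Subgroup.commutator_mono le_top le_top

omit [Finite G] in
theorem not_le_Ce {K : Subgroup G} (hK : IsQuasisimple K) : ¬ K ≤ Ce K := fun h =>
  quasisimple_not_isMulCommutative hK ⟨⟨fun a b => Subtype.ext (Subgroup.mem_centralizer_iff.1 (h b.2) a a.2)⟩⟩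

end Main

open Main

variable {p : ℕ} [Fact p.Prime] {M : Ideal AlgInt}

theorem bhg_step (hMin : BoxMin p M) (hOP : BoxOP p M) (hCMP : BoxCMP p M) (hPERM : BoxPERM p M) (hI : BoxI p M)
    (hFIN : BoxFIN p M) (hT : TRI p M) (hA : AUT p M) (hQ : QSb p M) (hK : KMa p) (hM : IsPModular p M)
    {G : Type} [Group G] [Finite G] (ih : ∀ (H : Type) [Group H] [Finite H], Lt H G → BHg p M H) : BHg p M G := by
  intro B D hB hD hz
  by_contra hna
  have m := hMin G B D ⟨hM, hB, hD, hz, hna, hK, ih⟩
  have hO := hOP G B D m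
  obtain ⟨c1, c2, -⟩ := hCMP G B D m hO
  have hG0 := hPERM hT G B D m hO
  have hn : ∀ K : Subgroup G, IsComponent K → K.Normal := fun K hK => by
    rw [← Subgroup.normalizer_eq_top_iff, eq_top_iff]
    exact fun g _ => mem_G0.1 (hG0 ▸ Subgroup.mem_top g) K hK
  have hne : ∀ K : Subgroup G, IsComponent K → K ≠ ⊤ := fun K hK h => hna (hQ G
    (isQuasisimple_of_mulEquiv ((MulEquiv.subgroupCongr h).trans Subgroup.topEquiv) hK.2) B D hB hD hz)
  by_cases hL : ∃ L : Subgroup G, L.Normal ∧ L.index = p
  · obtain ⟨L, _, hL⟩ := hL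
    obtain ⟨K, hK⟩ : ∃ K : Subgroup G, IsComponent K := by
      by_contra h3
      have h4 : layer G = ⊥ := le_bot_iff.1 (layer_le_iff.2 fun K hK => absurd ⟨K, hK⟩ h3)
      refine hna fun x _ y _ => Subgroup.mem_center_iff.1 (c1 ▸ ?_) x
      rw [h4]
      exact Subgroup.mem_centralizer_iff.2 fun z hz => by rw [Subgroup.mem_bot.1 hz, one_mul, mul_one]
    have := hn K hK
    exact hFIN G B D m K (hne K hK) (fun h => not_le_Ce hK.2 (h.trans (Subgroup.center_le_centralizer _)))
      (hI hA G B D m hO L hL K hK.2 (le_of_index hK.2 hL))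
  · have hperf := perfect_of (p := p) (G := G)
      (fun N _ h => m.gen N (le_of_not_dvd (H592.Defect.isPGroup_of_isDefectGroup hD) h))
      (fun N _ h => by
        obtain ⟨k, hk⟩ := h
        by_contra h1
        exact hL (exists_index hk h1))
    have h1 := layer_sup (G := G) fun K hK => by
      have := hn K hK
      exact sup_centralizer_eq_top hperf hK
    rw [c1] at h1
    rw [h1, inf_top_eq] at c2
    have h2 : ∀ K : Subgroup G, IsComponent K → D ≤ Ce (D ⊓ K) := fun K hK => by
      conv_lhs => rw [c2]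
      refine iSup₂_le fun L hL => ?_
      by_cases h3 : L = K
      · have := hn K hK
        rw [h3]
        exact (m.ab K (hne K hK)).le_centralizer
      · exact inf_le_right.trans ((component_le_centralizer_of_ne hL hK h3).trans
          (Subgroup.centralizer_le fun x hx => hx.2))
    have h3 : D ≤ Ce D := by
      conv_lhs => rw [c2]
      exact iSup₂_le fun K hK => Subgroup.le_centralizer_iff.1 (h2 K hK)
    exact hna fun x hx y hy => Subgroup.mem_centralizer_iff.1 (h3 hy) x hx

/-- **All heights zero implies an abelian defect group**, from the boxes. -/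
theorem bhg_all (hMin : BoxMin p M) (hOP : BoxOP p M) (hCMP : BoxCMP p M) (hPERM : BoxPERM p M) (hI : BoxI p M)
    (hFIN : BoxFIN p M) (hT : TRI p M) (hA : AUT p M) (hQ : QSb p M) (hK : KMa p) (hM : IsPModular p M)
    (G : Type) [Group G] [Finite G] : BHg p M G := by
  have key : ∀ (m n : ℕ) (G : Type) [Group G] [Finite G], (Subgroup.center G).index ≤ m → Nat.card G ≤ n →
      BHg p M G := by
    intro m
    induction m using Nat.strong_induction_on with
    | _ m ihm =>
      intro n
      induction n using Nat.strong_induction_on with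
      | _ n ihn =>
        intro G _ _ h1 h2
        refine bhg_step hMin hOP hCMP hPERM hI hFIN hT hA hQ hK hM fun H _ _ h => ?_
        rcases h with h | ⟨h, h'⟩
        · exact ihm _ (h.trans_le h1) _ H le_rfl le_rfl
        · exact ihn _ (h'.trans_le h2) H (h.trans h1) le_rfl
  exact key _ _ G le_rfl le_rfl

/-- **S4524** from the two directions for the groups in `Type`. -/
theorem s4524_of {G : Type u} [Group G] [Finite G] (hK : KMa p) (hM : IsPModular p M)
    (h : ∀ (H : Type) [Group H] [Finite H], BHg p M H) (B : Set (IrrCharacter G)) (hB : IsPBlock M B)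
    (D : Subgroup G) (hD : IsDefectGroup p M B D) :
    IsMulCommutative D ↔ ∀ χ ∈ B, blockHeight p B (χ : G → ℂ) = 0 := by
  have := Local.isPrime_of_isPModular hM
  have : _root_.Small.{0} G := Countable.toSmall G
  have : Finite (Shrink.{0} G) := Finite.of_equiv G (equivShrink.{0} G)
  have e : Shrink.{0} G ≃* G := Shrink.mulEquiv
  refine ⟨fun ha => eq_iff_hz.1 (PP.of_equiv hM e (hK.pp hM _) B D hB hD (ab_iff.2 ha)), fun hz => ab_iff.1 ?_⟩
  have h1 := h _ _ _ (H592.Transport.isPBlock_trSet e hB) (H592.Transport.isDefectGroup_trSet e hD)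
    (eq_of_cnt (fun d => cnt_trSet p e B d) (eq_iff_hz.2 hz))
  have h2 := h1.map e.toMonoidHom
  rwa [Subgroup.map_comap_eq_self_of_surjective e.surjective] at h2

end Cfsg.Agent.BH
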