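import Cfsg.Agent.BH.Main.Glue
import Cfsg.Agent.BH.Cmp.Main
import Cfsg.Agent.BH.Orb.A

/-!
# BH (S4524): box I (helper17)

`boxI` : a normal subgroup `L` of index `p` above a normal quasisimple subgroup `K`; the automorphisms of `K` induced
by `G` and by `L` satisfy `AHyp`.
-/

set_option autoImplicit false
set_option linter.style.haveILetI false
set_option linter.unusedSectionVars false

namespace Cfsg.Agent.BH

open Cfsg Cfsg.Agent Cfsg.Agent.Characters.Core Cfsg.Agent.Blocks Cfsg.Agent.TID.Red Cfsg.Agent.KM.BK Cfsg.Agent.TO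
open Cfsg.Agent.KM.Mu Cfsg.Agent.SignalizersComponents.Components
open Cfsg.Agent.H591.Reynolds (IsStab)
open Cfsg.Agent.H592.Transport (tr trSet tr_mem_trSet mem_trSet isPBlock_trSet)

variable {p : ℕ} [Fact p.Prime] {M : Ideal AlgInt}

namespace Main

section pure

variable {Γ : Type} [Group Γ]

omit [Fact p.Prime] in
theorem relIndex_eq {F X Y : Subgroup Γ} (h : Y ≤ X) (h1 : ∀ x ∈ X, ∃ y ∈ Y, y⁻¹ * x ∈ F) :
    F.relIndex X = F.relIndex Y := by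
  refine (Nat.card_eq_of_bijective (Subgroup.quotientSubgroupOfEmbeddingOfLE F h)
    ⟨(Subgroup.quotientSubgroupOfEmbeddingOfLE F h).injective, fun q => ?_⟩).symm
  obtain ⟨x, rfl⟩ := QuotientGroup.mk_surjective q
  obtain ⟨y, hy, h2⟩ := h1 x x.2
  exact ⟨QuotientGroup.mk ⟨y, hy⟩, QuotientGroup.eq.2 h2⟩

theorem not_dvd_relIndex [Finite Γ] {F X : Subgroup Γ} (h : ∀ x ∈ X, PElt p x → x ∈ F) : ¬ p ∣ F.relIndex X := by
  obtain ⟨P⟩ : Nonempty (Sylow p X) := inferInstance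
  refine fun h1 => P.not_dvd_index (h1.trans (Subgroup.index_dvd_of_le fun x hx => h x x.2 ?_))
  obtain ⟨k, hk⟩ := P.isPGroup' ⟨x, hx⟩
  have h2 : (x : Γ) ^ p ^ k = 1 := congrArg (fun y : (P : Subgroup X) => ((y : X) : Γ)) hk
  obtain ⟨j, -, hj⟩ := (Nat.dvd_prime_pow Fact.out).1 (orderOf_dvd_of_pow_eq_one h2)
  exact ⟨j, hj⟩

theorem mem_of_pow {F : Subgroup Γ} {x : Γ} (hx : PElt p x) {n : ℕ} (hn : ¬ p ∣ n) (h : x ^ n ∈ F) : x ∈ F := by
  obtain ⟨k, hk⟩ := hx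
  obtain ⟨r, hr⟩ := exists_pow_eq_self_of_coprime (x := x) (n := n)
    (hk ▸ (Nat.Coprime.pow_left k ((Nat.Prime.coprime_iff_not_dvd Fact.out).2 hn)).symm)
  exact hr ▸ F.pow_mem h r

omit [Fact p.Prime] in
theorem normal_sup {K H Y : Subgroup Γ} [K.Normal] (h : K ⊔ H = ⊤) (hY : H ≤ Subgroup.normalizer (Y : Set Γ)) :
    (K ⊔ (H ⊓ Ce Y)).Normal := by
  rw [← Subgroup.normalizer_eq_top_iff, eq_top_iff, ← h]
  refine sup_le (le_sup_left.trans Subgroup.le_normalizer) ?_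
  refine le_trans ?_ (Subgroup.normalizer_le_normalizer_sup_of_normalizer_le_right Subgroup.le_normalizer_of_normal)
  exact (le_inf Subgroup.le_normalizer fun x hx => H649.mem_normalizer_centralizer (hY hx)).trans
    Subgroup.inf_normalizer_le_normalizer_inf

omit [Fact p.Prime] in
theorem In_le (Q : Subgroup Γ) (θ : Γ → ℂ) : In Q θ ≤ Subgroup.normalizer (Q : Set Γ) := fun _ h =>
  Subgroup.mem_normalizer_iff.2 fun y => (h.1 y).symm

omit [Fact p.Prime] in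
theorem la_iff {X Q : Subgroup Γ} [hX : X.Normal] {θ : Γ → ℂ} (hQ : Q ≤ X) (h0 : ∀ g, g ∉ X → θ g = 0) (g : Γ) :
    MulAut.conjNormal g ∈ LA (Q.subgroupOf X) (fun x : X => θ x) ↔ g ∈ In Q θ := by
  have h1 : ∀ y, g * y * g⁻¹ ∈ X ↔ y ∈ X := fun y =>
    (Subgroup.mem_normalizer_iff.1 (Subgroup.le_normalizer_of_normal (Subgroup.mem_top g)) y).symm
  refine ⟨fun h => Cmp.mem_In_iff.2 ⟨fun y => ?_, fun y => ?_⟩, fun h => ⟨fun x => h.1 x, fun x => h.2 x⟩⟩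
  · by_cases hy : y ∈ X
    · exact h.1 ⟨y, hy⟩
    · exact ⟨fun h2 => absurd ((h1 y).1 (hQ h2)) hy, fun h2 => absurd (hQ h2) hy⟩
  · by_cases hy : y ∈ X
    · exact h.2 ⟨y, hy⟩
    · rw [h0 y hy, h0 _ fun h2 => hy ((h1 y).1 h2)]

omit [Fact p.Prime] in
theorem conj_eq {X : Subgroup Γ} [X.Normal] (k : X) : MulAut.conj k = MulAut.conjNormal (k : Γ) :=
  MulEquiv.ext fun _ => rfl

omit [Fact p.Prime] in
theorem in_iff {X Q : Subgroup Γ} [X.Normal] {θ : Γ → ℂ} (hQ : Q ≤ X) (h0 : ∀ g, g ∉ X → θ g = 0) (k : X) :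
    k ∈ In (Q.subgroupOf X) (fun x : X => θ x) ↔ (k : Γ) ∈ In Q θ := by
  rw [← la_iff hQ h0, ← conj_eq]
  rfl

omit [Fact p.Prime] in
theorem ce_iff {X Q : Subgroup Γ} (hQ : Q ≤ X) (k : X) : k ∈ Ce (Q.subgroupOf X) ↔ (k : Γ) ∈ Ce Q :=
  ⟨fun h y hy => congrArg Subtype.val (h ⟨y, hQ hy⟩ hy), fun h y hy => Subtype.ext (h y hy)⟩

omit [Fact p.Prime] in
theorem fixF_iff {X : Subgroup Γ} [X.Normal] (ψ : X → ℂ) (g : Γ) :
    MulAut.conjNormal g ∈ FixF ψ ↔ Fixes X g ψ :=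
  ⟨fun h n n' e => by
    rw [← h.2 n]
    exact congrArg ψ (Subtype.ext e), fun h => ⟨fun _ => Iff.rfl, fun n => h n _ rfl⟩⟩

end pure

variable {G : Type} [Group G] [Finite G] {B : Set (IrrCharacter G)} {D : Subgroup G}

omit [Fact p.Prime] in
theorem isStab_cov (B : Set (IrrCharacter G)) (N : Subgroup G) [N.Normal] : IsStab (cov B N) ⊤ :=
  isStab_iff.2 fun g => ⟨fun _ => Cmp.stabH_cov B (Subgroup.le_normalizer_of_normal (Subgroup.mem_top g)),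
    fun _ => Subgroup.mem_top g⟩

omit [Fact p.Prime] in
theorem cov_cov {X L : Subgroup G} (h : X ≤ L) (B : Set (IrrCharacter G)) :
    cov (cov B L) (X.subgroupOf L) = trSet (Subgroup.subgroupOfEquivOfLe h) (cov B X) := by
  ext ψ
  have key : ∀ χ : IrrCharacter G, Ov X.subtype (χ : G → ℂ) (tr (Subgroup.subgroupOfEquivOfLe h).symm ψ : X → ℂ) ↔
      Ov (L.subtype.comp (X.subgroupOf L).subtype) (χ : G → ℂ) (ψ : X.subgroupOf L → ℂ) := fun χ =>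
    ov_src_iff (Subgroup.subgroupOfEquivOfLe h).symm (fun _ => rfl) _ ψ
  constructor
  · rintro ⟨η, ⟨χ, hχ, h1⟩, h2⟩
    exact ⟨χ, hχ, (key χ).2 (Ov.trans (fun _ => rfl) (Cn.isChar χ.2) η.2 ψ.2 h1 h2)⟩
  · rintro ⟨χ, hχ, h1⟩
    obtain ⟨η, h2, h3⟩ := Cmp.exists_mid (ι := (X.subgroupOf L).subtype) (ι₂ := L.subtype) (fun _ => rfl)
      (isIrr_isClassFunction χ.2) ((key χ).1 h1)
    exact ⟨η, ⟨χ, hχ, h2⟩, h3⟩

/-- the root inside an intermediate subgroup -/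
theorem root_sub {K L Q : Subgroup G} (h : K ≤ L) {b : Set (IrrCharacter K)} {θ : G → ℂ} (r : Root p M K b Q θ) :
    Root p M (K.subgroupOf L) (trSet (Subgroup.subgroupOfEquivOfLe h) b) (Q.subgroupOf L) (fun x : L => θ x) := by
  refine ⟨fun x hx => r.le hx, fun g hg => r.zero g hg, ?_⟩
  convert r.can.map (Subgroup.subgroupOfEquivOfLe h).symm using 1
  · ext ψ
    exact (H649.mem_blkMap (e := (Subgroup.subgroupOfEquivOfLe h).symm) (B := b)).symm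
  · ext x
    exact ⟨fun hx => ⟨Subgroup.subgroupOfEquivOfLe h x, hx, MulEquiv.symm_apply_apply _ x⟩, fun ⟨y, hy, e⟩ => e ▸ hy⟩
  · rfl

/-- the proper normal subgroup `L` acts through a group of order prime to `p` -/
theorem reg_sub (REG : BoxREG p M) (m : Min p M B D) {K L : Subgroup G} [K.Normal] [L.Normal] (hKL : K ≤ L)
    (hL : L ≠ ⊤) {θ : G → ℂ} (r : Root p M K (cov B K) (D ⊓ K) θ) (hD : D ≤ In (D ⊓ K) θ)
    [(K ⊔ (In (D ⊓ K) θ ⊓ Ce (D ⊓ K))).Normal] :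
    ∃ n, ¬ p ∣ n ∧ ∀ g ∈ L, g ^ n ∈ K ⊔ (In (D ⊓ K) θ ⊓ Ce (D ⊓ K)) := by
  have := Local.isPrime_of_isPModular m.hM
  set K₁ := K ⊔ (In (D ⊓ K) θ ⊓ Ce (D ⊓ K)) with hK₁
  have r1 := root_sub hKL r
  rw [← cov_cov] at r1
  have hQ : D ⊓ K ≤ L := inf_le_right.trans hKL
  have h0 : ∀ g, g ∉ L → θ g = 0 := fun g hg => r.zero g fun h => hg (hKL h)
  have h1 := (REG m.hM L (K.subgroupOf L) (cov B L) _ (m.blk L) (defect_cov m.hM m.hB m.hD (m.blk L)) r1.can.hb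
    (isStab_cov _ _) _ _ r1).2.1 ((K₁ ⊓ L).subgroupOf L)
    (sup_le (fun x hx => ⟨Subgroup.mem_sup_left hx, x.2⟩) fun x hx =>
      ⟨Subgroup.mem_sup_right ⟨(in_iff hQ h0 x).1 hx.1, (ce_iff hQ x).1 hx.2⟩, x.2⟩)
    (by
      rw [cov_cov inf_le_right]
      exact isPBlock_trSet _ (m.blk _))
    (isStab_cov _ _)
  have h2 : (D ⊓ L).subgroupOf L ≤ (K₁ ⊓ L).subgroupOf L := fun x hx =>
    ⟨Subgroup.mem_sup_right ⟨hD hx.1, fun y hy => m.ab L hL y ⟨hy.1, hKL hy.2⟩ x hx⟩, x.2⟩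
  rw [sup_eq_left.2 h2] at h1
  exact ⟨_, h1, fun g hg => (Subgroup.pow_index_mem ((K₁ ⊓ L).subgroupOf L) ⟨g, hg⟩).1⟩

end Main

open Main

/-- **[I]** -/
theorem boxI (RT : BoxRT p M) (REG : BoxREG p M) (RZ : BoxRZ p M) (HT : BoxHT p M) : BoxI p M := by
  intro hA G _ _ B D m hO L _ hL K _ hK hKL
  have hp : p.Prime := Fact.out
  have := Local.isPrime_of_isPModular m.hM
  have hDp := H592.Defect.isPGroup_of_isDefectGroup m.hD
  have hLt : L ≠ ⊤ := fun h => hp.ne_one (by rw [← hL, h, Subgroup.index_top])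
  have hKt : K ≠ ⊤ := fun h => hLt (top_le_iff.1 (h ▸ hKL))
  have hc : IsComponent K := ⟨Subgroup.Normal.isSubnormal inferInstance, hK⟩
  -- the root
  obtain ⟨θ, r, hD, hZ⟩ : ∃ θ, Root p M K (cov B K) (D ⊓ K) θ ∧ D ≤ In (D ⊓ K) θ ∧ D ≤ Ce (Zr K (D ⊓ K) θ) := by
    have h1 : Subgroup.center G ≤ L := by
      by_contra h
      have h2 : (L ⊔ Subgroup.center G).index ∣ p := hL ▸ Subgroup.index_dvd_of_le le_sup_left
      have h3 := Subgroup.relIndex_mul_index (le_sup_left : L ≤ L ⊔ Subgroup.center G)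
      rw [Subgroup.relIndex_sup_left, hL] at h3
      rcases (Nat.dvd_prime hp).1 (Dvd.intro _ h3) with h4 | h4
      · exact h (Subgroup.relIndex_eq_one.1 h4)
      · exact m.zp (h4 ▸ Subgroup.relIndex_dvd_card L _)
    have hN : K ⊔ Subgroup.center G ≠ ⊤ := fun h => hLt (top_le_iff.1 (h ▸ sup_le hKL h1))
    have hN' : K ⊔ Subgroup.center G ≤ layer G ⊔ Subgroup.center G := sup_le_sup_right (component_le_layer hc) _
    obtain ⟨θ, r, h2, h3⟩ := Cmp.cen_zr RZ RT m _ le_sup_right hN fun h =>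
      Cmp.not_ab hc ((Cmp.ab_of (m.ab _ hN) h).mono le_sup_left)
    have h4 : D ⊓ (K ⊔ Subgroup.center G) ⊓ K = D ⊓ K := by
      rw [inf_assoc, inf_eq_right.2 (le_sup_left : K ≤ K ⊔ Subgroup.center G)]
    obtain ⟨θ', a, ha, h5, r'⟩ := Cmp.root_down le_sup_left (hN'.trans (Cmp.layer_le hc)) r fun x hx =>
      h4 ▸ Cmp.key m hO hc hx.1 (hN' hx.2)
    have h6 := Cmp.zr_le (Q := D ⊓ (K ⊔ Subgroup.center G)) (hN'.trans (Cmp.layer_le hc)) ha h5 r'.zero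
    rw [h4, ← Cmp.cov_eq] at r'
    rw [h4] at h6
    exact ⟨θ', r', fun d hd => h4 ▸ Cmp.mem_In ha h5 r'.zero (h2 hd)
      (Subgroup.le_normalizer_of_normal (Subgroup.mem_top d)), h3.trans (Subgroup.centralizer_le h6)⟩
  have hH := (RT m.hM G K B D m.hB m.hD (m.blk K) (m.stab K) (m.ab K hKt)).2 θ r
  have hla := la_iff r.le r.zero
  have hin := in_iff r.le r.zero
  have := normal_sup hH (In_le (D ⊓ K) θ)
  obtain ⟨n, hn, hn'⟩ := reg_sub REG m hKL hLt r hD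
  set Q := D ⊓ K with hQ
  set φ : G →* MulAut K := MulAut.conjNormal with hφ
  have c0 : ∀ α ∈ L.map φ ⊓ LA (Q.subgroupOf K) (fun x : K => θ x), PElt p α → ∀ u ∈ Q.subgroupOf K, α u = u := by
    rintro _ ⟨⟨g, hg, rfl⟩, h1⟩ h2 u hu
    have h3 := (hla g).1 h1
    obtain ⟨k, hk, c, hc, h4⟩ := Subgroup.mem_sup_of_normal_left.1 (hn' g hg)
    have h5 : k ∈ In Q θ := (mul_mem_cancel_right (Subgroup.mem_inf.1 hc).1).1 (h4 ▸ pow_mem h3 n)
    have := Cn.normal_Ce (D := Q) (θ := θ)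
    have := Cn.normal_Ce (D := Q.subgroupOf K) (θ := fun x : K => θ x)
    have h6 := Subgroup.pow_index_mem ((Ce (Q.subgroupOf K)).subgroupOf (In (Q.subgroupOf K) fun x : K => θ x))
      ⟨⟨k, hk⟩, (hin _).2 h5⟩
    set e := ((Ce (Q.subgroupOf K)).subgroupOf (In (Q.subgroupOf K) fun x : K => θ x)).index with he
    have h7 : k ^ e ∈ Ce Q := (ce_iff r.le (⟨k, hk⟩ ^ e)).1 h6
    have h8 : (⟨g, h3⟩ : In Q θ) ^ (n * e) ∈ (Ce Q).subgroupOf (In Q θ) := by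
      rw [← QuotientGroup.eq_one_iff, pow_mul, show (⟨g, h3⟩ : In Q θ) ^ n = ⟨k, h5⟩ * ⟨c, hc.1⟩ from
        Subtype.ext h4.symm, QuotientGroup.mk_pow, QuotientGroup.mk_mul,
        (QuotientGroup.eq_one_iff (⟨c, hc.1⟩ : In Q θ)).2 hc.2, mul_one, ← QuotientGroup.mk_pow,
        QuotientGroup.eq_one_iff]
      exact h7
    refine mem_of_pow (F := FixE u) h2 (n := n * e) (fun h => (hp.dvd_mul.1 h).elim hn r.can.idx) ?_
    rw [← map_pow]
    refine Subtype.ext ?_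
    change g ^ (n * e) * u * (g ^ (n * e))⁻¹ = u
    rw [← show (u : G) * g ^ (n * e) = g ^ (n * e) * u from h8 u hu, mul_inv_cancel_right]
  have cen : Cen p (Q.subgroupOf K) (fun x : K => θ x) φ.range → D ≤ Ce Q := by
    intro h d hd u hu
    obtain ⟨k, hk⟩ := hDp ⟨d, hd⟩
    have h1 : φ d ^ p ^ k = 1 := by rw [← map_pow, show d ^ p ^ k = 1 from congrArg Subtype.val hk, map_one]
    obtain ⟨j, -, hj⟩ := (Nat.dvd_prime_pow hp).1 (orderOf_dvd_of_pow_eq_one h1)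
    have h2 : d * u * d⁻¹ = u :=
      congrArg Subtype.val (h (φ d) ⟨⟨d, rfl⟩, (hla d).2 (hD hd)⟩ ⟨j, hj⟩ ⟨u, hu.2⟩ hu)
    exact (mul_inv_eq_iff_eq_mul.1 h2).symm
  have hidx : (L.map φ).relIndex φ.range ∣ p := by
    rw [← Subgroup.index_comap, ← hL]
    exact Subgroup.index_dvd_of_le (Subgroup.le_comap_map φ L)
  rcases (Nat.dvd_prime hp).1 hidx with h1 | h1
  · exact cen fun α hα => c0 α ⟨Subgroup.relIndex_eq_one.1 h1 hα.1, hα.2⟩
  obtain ⟨-, -, -, θ₀, -, q, -⟩ := (boxCMP RZ RT G B D m hO).2.2 K hc hKt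
  have inn : Inn K ≤ L.map φ := by
    rintro _ ⟨k, rfl⟩
    exact ⟨k, hKL k.2, (conj_eq k).symm⟩
  have stab : φ.range ≤ Stab (cov B K) := by
    rintro _ ⟨g, rfl⟩
    obtain ⟨ψ, hψ⟩ := Basic.isPBlock_nonempty (m.blk K)
    exact Orb.stab_of m.hM (m.blk K) ⟨ψ, hψ, rfl⟩ ⟨_, ((m.stab K).mem_iff g).1 (Subgroup.mem_top g) ψ hψ, rfl⟩
  have fx : ∀ y ∈ K ⊔ (In Q θ ⊓ Ce Q), PElt p y → ∀ χ ∈ Fn (cov B K), φ y ∈ FixF χ := by
    rintro y hy ⟨k, hk⟩ _ ⟨ψ, hψ, rfl⟩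
    exact (fixF_iff _ y).2 ((REG m.hM G K B D m.hB m.hD (m.blk K) (m.stab K) Q θ r).2.2 y hy
      ⟨k, by rw [← hk, pow_orderOf_eq_one]; exact one_mem _⟩ ψ hψ)
  have orb : ∀ χ ∈ Fn (cov B K), ¬ p ∣ ((FixF χ).comap φ).index := by
    intro χ hχ
    obtain ⟨ψ, hψ, rfl⟩ := id hχ
    obtain ⟨g, h2, -⟩ := m.ext K ψ hψ
    have h3 := (REG m.hM G K B _ m.hB (Basic.isDefectGroup_conj m.hD g) (m.blk K) (m.stab K) Q θ r).2.1 _ le_rfl
      (m.blk _) (m.stab _)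
    have h4 := relIndex_eq (F := (FixF ψ.1).comap φ) (le_sup_left : K ⊔ (In Q θ ⊓ Ce Q) ≤ _ ⊔ cj g D)
      fun x hx => by
        obtain ⟨y, hy, d, hd, rfl⟩ := Subgroup.mem_sup_of_normal_left.1 hx
        exact ⟨y, hy, by rw [inv_mul_cancel_left]; exact (fixF_iff _ d).2 (h2 d hd)⟩
    have h5 := not_dvd_relIndex (p := p) (F := (FixF ψ.1).comap φ) fun y hy h6 => fx y hy h6 _ hχ
    rw [← h4] at h5
    intro h6
    have h7 := h6.trans (Subgroup.index_dvd_of_le (inf_le_left : _ ⊓ (K ⊔ (In Q θ ⊓ Ce Q) ⊔ cj g D) ≤ _))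
    rw [← Subgroup.relIndex_mul_index inf_le_right, Subgroup.inf_relIndex_right] at h7
    exact (hp.dvd_mul.1 h7).elim h5 h3
  have ho : ∀ α ∈ φ.range, ∀ χ ∈ Fn (cov B K), ∃ β ∈ L.map φ, χ ∘ α = χ ∘ β := by
    rintro _ ⟨g, rfl⟩ χ hχ
    have h2 : (FixF χ).comap φ ⊔ L = ⊤ := by
      rw [← Subgroup.index_eq_one]
      exact ((Nat.dvd_prime hp).1 (hL ▸ Subgroup.index_dvd_of_le le_sup_right)).resolve_right fun h3 =>
        orb χ hχ (h3 ▸ Subgroup.index_dvd_of_le le_sup_left)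
    obtain ⟨t, ht, l, hl, rfl⟩ := Subgroup.mem_sup_of_normal_right.1 (h2 ▸ Subgroup.mem_top g)
    refine ⟨φ l, ⟨l, hl, rfl⟩, funext fun x => ?_⟩
    rw [map_mul]
    exact ht.2 (φ l x)
  have hcz : In Q θ ≤ Ce (Zr K Q θ) := by
    have h2 : In Q θ ≤ Subgroup.normalizer (Zr K Q θ : Set G) :=
      (le_inf (In_le Q θ) fun x hx => H649.mem_normalizer_centralizer (Subgroup.inf_normalizer_le_normalizer_inf
        ⟨Subgroup.le_normalizer hx, Subgroup.le_normalizer_of_normal (Subgroup.mem_top x)⟩)).trans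
        Subgroup.inf_normalizer_le_normalizer_inf
    have := normal_sup hH h2
    have h3 := m.gen _ ((le_inf hD hZ).trans (le_sup_right : _ ≤ K ⊔ (In Q θ ⊓ Ce (Zr K Q θ))))
    intro g hg z hz
    obtain ⟨k, hk, c, hc, rfl⟩ := Subgroup.mem_sup_of_normal_left.1 (h3 ▸ Subgroup.mem_top g)
    rw [← mul_assoc, ← hz.2 k ⟨(mul_mem_cancel_right (Subgroup.mem_inf.1 hc).1).1 hg, hk⟩, mul_assoc, hc.2 z hz, mul_assoc]
  refine (hA K _ _ _ _ _ { q with can := r.can } φ.range (L.map φ) ⟨inn, Subgroup.map_le_range φ L, stab, ?_, ?_, h1,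
    c0, ?_, fun χ hχ => Subgroup.index_comap _ φ ▸ orb χ hχ, fun u hu => ?_, ?_⟩).elim cen (HT G B D m hO K hK hKt)
  · rintro _ ⟨g, rfl⟩ z hz
    refine Subtype.ext ?_
    change g * z * g⁻¹ = z
    rw [show g * z = z * g from Subgroup.mem_center_iff.1 (Cmp.center_inj m hO hc ⟨z, hz, rfl⟩) g,
      mul_inv_cancel_right]
  · refine ⟨?_⟩
    rintro ⟨_, _⟩ ⟨l, hl, rfl⟩ ⟨_, g, rfl⟩
    exact ⟨g * l * g⁻¹, Subgroup.Normal.conj_mem inferInstance l hl g, by rw [map_mul, map_mul, map_inv]; rfl⟩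
  · rintro _ ⟨g, hg, rfl⟩ h2 χ hχ
    have h3 : orderOf g ≠ 0 := (orderOf_pos g).ne'
    have h4 := fx ((g ^ n) ^ ordCompl[p] (orderOf g)) (pow_mem (hn' g hg) _) (by
      have h5 : ((g ^ n) ^ ordCompl[p] (orderOf g)) ^ p ^ (orderOf g).factorization p = 1 := by
        rw [← pow_mul, mul_comm, Nat.ordProj_mul_ordCompl_eq_self, ← pow_mul, mul_comm, pow_mul, pow_orderOf_eq_one,
          one_pow]
      obtain ⟨j, -, hj⟩ := (Nat.dvd_prime_pow hp).1 (orderOf_dvd_of_pow_eq_one h5)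
      exact ⟨j, hj⟩) χ hχ
    rw [← pow_mul, map_pow] at h4
    exact funext (mem_of_pow h2 (fun h => (hp.dvd_mul.1 h).elim hn (Nat.not_dvd_ordCompl hp h3)) h4).2
  · rw [relIndex_eq (inf_le_inf_right _ (Subgroup.map_le_range φ L)) fun α hα => by
      obtain ⟨β, hβ, h2⟩ := Orb.orb r.can inn ((Subgroup.map_le_range φ L).trans stab) hα.2 (ho α hα.1) hu
      refine ⟨β, hβ, ?_⟩
      change β⁻¹ (α u) = u
      rw [h2, MulAut.inv_apply_self]]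
    exact not_dvd_relIndex fun α hα h2 => c0 α hα h2 u hu
  · rintro _ ⟨⟨g, rfl⟩, h2⟩ z hz
    have h3 : (z : G) ∈ Zr K Q θ := ⟨hz.1, fun y hy => congrArg Subtype.val (hz.2 ⟨y, hy.2⟩ ((hin _).2 hy.1))⟩
    refine Subtype.ext ?_
    change g * z * g⁻¹ = z
    rw [← hcz ((hla g).1 h2) z h3, mul_inv_cancel_right]

/-- **S4524** from the boxes -/
theorem s4524_boxes.{u} (hMin : BoxMin p M) (RT : BoxRT p M) (REG : BoxREG p M) (RZ : BoxRZ p M) (HT : BoxHT p M)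
    (PERM : BoxPERM p M) (FIN : BoxFIN p M) (hT : TRI p M) (hA : AUT p M) (hQ : QSb p M) (hK : KMa p)
    (hM : IsPModular p M) {G : Type u} [Group G] [Finite G] (B : Set (IrrCharacter G)) (hB : IsPBlock M B)
    (D : Subgroup G) (hD : IsDefectGroup p M B D) :
    IsMulCommutative D ↔ ∀ χ ∈ B, blockHeight p B (χ : G → ℂ) = 0 :=
  s4524_of hK hM (bhg_all hMin (boxOP RZ RT) (boxCMP RZ RT) PERM (boxI RT REG RZ HT) FIN hT hA hQ hK hM) B hB D hD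

end Cfsg.Agent.BH
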